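import Groth.Agent.Lib.Lim.Approx.Rel
import Groth.Agent.Lib.Lim.Valuative
import Groth.Prelude.Def_HTop

/-!
# Standard ph coverings refining a universally closed surjection locally mapped to an affine scheme
-/

set_option autoImplicit false
set_option backward.isDefEq.respectTransparency false

universe u

open CategoryTheory CategoryTheory.Limits AlgebraicGeometry Opposite

namespace Groth.Agent.H47.PhCover

/-- A lift to an affine scheme along a morphism that is injective on global functions. -/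
theorem exists_lift {A B T Z : Scheme.{u}} [IsAffine T] [IsAffine Z] (t : T ⟶ Z) (a : A ⟶ Z)
    (q : B ⟶ A) (c : B ⟶ T) (hw : q ≫ a = c ≫ t) (hinj : Function.Injective q.appTop)
    (hrange : ∀ x, c.appTop x ∈ Set.range q.appTop) : ∃ l : A ⟶ T, l ≫ t = a := by
  let e : Γ(A, ⊤) ≃+* q.appTop.hom.range :=
    RingEquiv.ofBijective q.appTop.hom.rangeRestrict
      ⟨fun x y h => hinj (congrArg Subtype.val h), q.appTop.hom.rangeRestrict_surjective⟩
  let φ : Γ(T, ⊤) →+* Γ(A, ⊤) :=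
    e.symm.toRingHom.comp (c.appTop.hom.codRestrict q.appTop.hom.range hrange)
  have hφ : ∀ x, q.appTop (φ x) = c.appTop x := fun x =>
    congrArg Subtype.val (e.apply_symm_apply ⟨c.appTop x, hrange x⟩)
  have hc : t.appTop ≫ CommRingCat.ofHom φ = a.appTop := by
    refine CommRingCat.hom_ext (RingHom.ext fun z => hinj ?_)
    refine (hφ _).trans ?_
    exact (ConcreteCategory.congr_hom (congrArg Scheme.Hom.appTop hw) z).symm
  refine ⟨A.toSpecΓ ≫ Spec.map (CommRingCat.ofHom φ) ≫ T.isoSpec.inv, ?_⟩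
  rw [← cancel_mono Z.toSpecΓ]
  simp only [Category.assoc]
  rw [Scheme.toSpecΓ_naturality t, Scheme.toSpecΓ_naturality a, ← hc, Spec.map_comp]
  simp [Scheme.isoSpec]

/-- Injectivity on sections over an open passes to the restriction. -/
theorem injective_morphismRestrict {X Y : Scheme.{u}} (f : X ⟶ Y) (U : Y.Opens)
    (h : Function.Injective (f.app U)) : Function.Injective (f ∣_ U).appTop := by
  have h' : Function.Injective (f.app (U.ι ''ᵁ ⊤)) := by rw [U.ι_image_top]; exact h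
  rw [morphismRestrict_appTop]
  intro x y hxy
  rw [CommRingCat.comp_apply, CommRingCat.comp_apply] at hxy
  exact h' ((ConcreteCategory.bijective_of_isIso _).1 hxy)

/-- For `T` affine and of finite type over the affine `Z`, it is enough to test the range on generators. -/
theorem exists_generators {T Z : Scheme.{u}} [IsAffine T] [IsAffine Z] (t : T ⟶ Z)
    [LocallyOfFiniteType t] :
    ∃ G : Finset Γ(T, ⊤), ∀ {R : Type u} [CommRing R] (c : Γ(T, ⊤) →+* R) (P : Subring R),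
      (∀ z, c (t.appTop z) ∈ P) → (∀ g ∈ G, c g ∈ P) → ∀ x, c x ∈ P := by
  have hfin : t.appTop.hom.FiniteType := HasRingHomProperty.appTop @LocallyOfFiniteType t inferInstance
  algebraize [t.appTop.hom]
  obtain ⟨G, hG⟩ := Algebra.FiniteType.out (R := Γ(Z, ⊤)) (A := Γ(T, ⊤))
  refine ⟨G, fun c P hz hg x => ?_⟩
  have hx : x ∈ Algebra.adjoin Γ(Z, ⊤) (G : Set Γ(T, ⊤)) := hG ▸ trivial
  exact Algebra.adjoin_induction (p := fun x _ => c x ∈ P) (fun x hx => hg x hx) hz
    (fun x y _ _ hx hy => map_add c x y ▸ P.add_mem hx hy)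
    (fun x y _ _ hx hy => map_mul c x y ▸ P.mul_mem hx hy) hx

/-- A universally closed separated surjection onto an affine scheme, locally mapped to an affine
scheme of finite type over the target, yields a standard ph covering factoring through the latter. -/
theorem exists_standardPh {Y T Z : Scheme.{u}} [IsAffine T] [IsAffine Z] (g : Y ⟶ Z) [IsSeparated g]
    [UniversallyClosed g] [Surjective g] (t : T ⟶ Z) [LocallyOfFiniteType t]
    (hloc : ∀ y : Y, ∃ (O : Y.Opens) (c : (O : Scheme.{u}) ⟶ T), y ∈ O ∧ c ≫ t = O.ι ≫ g) :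
    ∃ F : PreZeroHypercover.{0} Z, HTop.IsStandardPh F ∧ ∀ j : F.I₀, ∃ l : F.X j ⟶ T, l ≫ t = F.f j := by
  classical
  have : QuasiCompact g := inferInstance
  have : CompactSpace Y := QuasiCompact.compactSpace_of_compactSpace g
  have : QuasiSeparatedSpace Y := quasiSeparatedSpace_of_quasiSeparated g
  obtain ⟨R⟩ := Lib.Lim.Approx.Rel.exists_relApprox g
  obtain ⟨G, hG⟩ := exists_generators t
  obtain ⟨k₀⟩ := R.ne
  have : IsSeparated (R.cone.π.app (op k₀) ≫ R.t.app (op k₀)) := by rw [R.w]; infer_instance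
  obtain ⟨s₀, hs₀⟩ := Lib.Lim.Valuative.exists_isSeparated R.isLimit R.t (op k₀)
  choose O c hyO hc using hloc
  have hbas : ∀ y : Y, ∃ (i : R.Kᵒᵖ) (V : (R.D.obj i).Opens),
      IsAffineOpen V ∧ y ∈ R.π.app i ⁻¹ᵁ V ∧ R.π.app i ⁻¹ᵁ V ≤ O y := by
    intro y
    obtain ⟨_, ⟨i, V, hV, rfl⟩, hyV, hVO⟩ := TopologicalSpace.Opens.isBasis_iff_nbhd.mp
      (isBasis_preimage_isAffineOpen R.D R.cone R.isLimit) (U := O y) (hyO y)
    exact ⟨i, V, hV, hyV, hVO⟩
  choose i V hV hyV hVO using hbas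
  have hsec : ∀ (y : Y) (x : Γ(T, ⊤)), ∃ (j : Over (i y))
      (r : Γ(((R.D.map j.hom ⁻¹ᵁ V y : (R.D.obj j.left).Opens) : Scheme.{u}), ⊤)),
      ((R.π.app j.left).resLE (R.D.map j.hom ⁻¹ᵁ V y) (R.π.app (i y) ⁻¹ᵁ V y)
          (by rw [← Scheme.Hom.comp_preimage]; exact (congrArg (fun a => a ⁻¹ᵁ V y) (R.cone.w j.hom)).ge)).appTop r =
        (Y.homOfLE (hVO y) ≫ c y).appTop x := by
    intro y x
    have (j : Over (i y)) : IsAffine ((opensDiagram R.D (i y) (V y)).obj j) := (hV y).preimage _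
    have (j : Over (i y)) : CompactSpace ((opensDiagram R.D (i y) (V y)).obj j) := inferInstance
    have (j : Over (i y)) : QuasiSeparatedSpace ((opensDiagram R.D (i y) (V y)).obj j) := inferInstance
    obtain ⟨j, r, hr⟩ := exists_appTop_π_eq_of_isLimit (opensDiagram R.D (i y) (V y)) _
      (isLimitOpensCone R.D R.cone R.isLimit (i y) (V y)) ((Y.homOfLE (hVO y) ≫ c y).appTop x)
    exact ⟨j, r, hr.symm⟩
  choose j r hr using hsec
  obtain ⟨s, hs⟩ := isCompact_univ.elim_finite_subcover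
    (fun y : Y => ((R.π.app (i y) ⁻¹ᵁ V y : Y.Opens) : Set Y))
    (fun y => (R.π.app (i y) ⁻¹ᵁ V y).2) (fun y _ => Set.mem_iUnion.mpr ⟨y, hyV y⟩)
  obtain ⟨k, hk⟩ := IsCofiltered.inf_objs_exists
    (insert s₀ (s.image i ∪ (s ×ˢ G).image fun p => (j p.1 p.2).left))
  obtain ⟨a₀⟩ := hk (Finset.mem_insert_self _ _)
  have ha : ∀ y ∈ s, Nonempty (k ⟶ i y) := fun y hy =>
    hk (Finset.mem_insert_of_mem (Finset.mem_union_left _ (Finset.mem_image_of_mem _ hy)))
  have hb : ∀ y ∈ s, ∀ x ∈ G, Nonempty (k ⟶ (j y x).left) := fun y hy x hx =>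
    hk (Finset.mem_insert_of_mem (Finset.mem_union_right _
      (Finset.mem_image.2 ⟨(y, x), Finset.mem_product.2 ⟨hy, hx⟩, rfl⟩)))
  let e : Y ⟶ R.D.obj k := R.π.app k
  have het : e ≫ R.t.app k = g := R.w k
  have : IsSeparated (R.t.app k) := by
    have h1 : R.D.map a₀ ≫ R.t.app s₀ = R.t.app k := by simp
    have := hs₀
    rw [← h1]; infer_instance
  have : UniversallyClosed (e ≫ R.t.app k) := by rw [het]; infer_instance
  have : UniversallyClosed e := UniversallyClosed.of_comp_of_isSeparated e (R.t.app k)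
  let f : e.image ⟶ Z := e.imageι ≫ R.t.app k
  have hf : e.toImage ≫ f = g := (Scheme.Hom.toImage_imageι_assoc e _).trans het
  have : UniversallyClosed (e.toImage ≫ f) := by rw [hf]; infer_instance
  have : Surjective (e.toImage ≫ f) := by rw [hf]; infer_instance
  have : Surjective f := Surjective.of_comp e.toImage f
  have : IsDominant e.toImage := inferInstance
  have : UniversallyClosed e.toImage := by
    have : UniversallyClosed (e.toImage ≫ e.imageι) := by rw [Scheme.Hom.toImage_imageι]; infer_instance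
    exact UniversallyClosed.of_comp_of_isSeparated e.toImage e.imageι
  have : Surjective e.toImage := inferInstance
  have : UniversallyClosed f := UniversallyClosed.of_comp_surjective e.toImage f
  have : LocallyOfFinitePresentation (R.t.app k) := R.lfp k
  have : LocallyOfFiniteType f := inferInstance
  have : IsProper f := {}
  have hle : ∀ (y : Y) (a : k ⟶ i y), e ⁻¹ᵁ (R.D.map a ⁻¹ᵁ V y) = R.π.app (i y) ⁻¹ᵁ V y := fun y a => by
    rw [← Scheme.Hom.comp_preimage]; exact congrArg (fun b => b ⁻¹ᵁ V y) (R.cone.w a)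
  let U : s → e.image.Opens := fun y => e.imageι ⁻¹ᵁ (R.D.map (ha y.1 y.2).some ⁻¹ᵁ V y.1)
  have hU : ∀ y, IsAffineOpen (U y) := fun y => ((hV y.1).preimage _).preimage _
  obtain ⟨N, ⟨σ⟩⟩ := Finite.exists_equiv_fin s
  let F : PreZeroHypercover.{0} Z :=
    ⟨Fin N, fun n => (U (σ.symm n) : Scheme.{u}), fun n => (U (σ.symm n)).ι ≫ f⟩
  refine ⟨F, ⟨inferInstance, inferInstanceAs (Finite (Fin N)), fun n => hU _, e.image, f,
    fun n => (U (σ.symm n)).ι, inferInstance, inferInstance, fun n => inferInstance,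
    fun n => rfl, fun z => ?_⟩, fun n => ?_⟩
  · obtain ⟨y, rfl⟩ := e.toImage.surjective z
    obtain ⟨y₀, hy₀, hy⟩ := Set.mem_iUnion₂.mp (hs (Set.mem_univ y))
    have hy' : e.toImage y ∈ U ⟨y₀, hy₀⟩ := by
      show e.imageι (e.toImage y) ∈ R.D.map (ha y₀ hy₀).some ⁻¹ᵁ V y₀
      rw [← Scheme.Hom.comp_apply, Scheme.Hom.toImage_imageι]
      exact (hle y₀ (ha y₀ hy₀).some).ge hy
    refine ⟨σ ⟨y₀, hy₀⟩, ?_⟩
    rw [Scheme.Opens.range_ι, Equiv.symm_apply_apply]
    exact hy'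
  obtain ⟨⟨y, hy⟩, rfl⟩ := σ.surjective n
  show ∃ l : (U (σ.symm (σ ⟨y, hy⟩)) : Scheme.{u}) ⟶ T, l ≫ t = (U (σ.symm (σ ⟨y, hy⟩))).ι ≫ f
  rw [Equiv.symm_apply_apply]
  let a : k ⟶ i y := (ha y hy).some
  let A : e.image.Opens := U ⟨y, hy⟩
  let B : Y.Opens := e.toImage ⁻¹ᵁ A
  have hB : B = R.π.app (i y) ⁻¹ᵁ V y := by
    show e.toImage ⁻¹ᵁ (e.imageι ⁻¹ᵁ (R.D.map a ⁻¹ᵁ V y)) = _
    rw [← Scheme.Hom.comp_preimage, Scheme.Hom.toImage_imageι]
    exact hle y a
  let q : (B : Scheme.{u}) ⟶ (A : Scheme.{u}) := e.toImage ∣_ A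
  let c' : (B : Scheme.{u}) ⟶ T := Y.homOfLE hB.le ≫ Y.homOfLE (hVO y) ≫ c y
  refine exists_lift t (A.ι ≫ f) q c' ?_ ?_ ?_
  · rw [morphismRestrict_ι_assoc, hf]
    simp only [c', Category.assoc, hc, Scheme.homOfLE_ι_assoc]
    rfl
  · exact injective_morphismRestrict e.toImage A (e.toImage_app_injective ⟨_, (hV y).preimage (R.D.map a)⟩)
  · refine fun x => hG c'.appTop.hom q.appTop.hom.range (fun z => ⟨(A.ι ≫ f).appTop z, ?_⟩) (fun x hx => ?_) x
    · refine ConcreteCategory.congr_hom (congrArg Scheme.Hom.appTop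
        (show q ≫ A.ι ≫ f = c' ≫ t from ?_)) z
      rw [morphismRestrict_ι_assoc, hf]
      simp only [c', Category.assoc, hc, Scheme.homOfLE_ι_assoc]
      rfl
    obtain ⟨b⟩ := hb y hy x hx
    let W : (R.D.obj (j y x).left).Opens := R.D.map (j y x).hom ⁻¹ᵁ V y
    have hAW : A ≤ (e.imageι ≫ R.D.map b) ⁻¹ᵁ W := by
      have hab : b ≫ (j y x).hom = a := Subsingleton.elim _ _
      show e.imageι ⁻¹ᵁ (R.D.map a ⁻¹ᵁ V y) ≤ (e.imageι ≫ R.D.map b) ⁻¹ᵁ (R.D.map (j y x).hom ⁻¹ᵁ V y)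
      rw [← hab, Functor.map_comp, ← Scheme.Hom.comp_preimage, ← Scheme.Hom.comp_preimage,
        Category.assoc]
    let ρ : (A : Scheme.{u}) ⟶ (W : Scheme.{u}) := (e.imageι ≫ R.D.map b).resLE W A hAW
    refine ⟨ρ.appTop (r y x), ?_⟩
    have hsq : q ≫ ρ = Y.homOfLE hB.le ≫ (R.π.app (j y x).left).resLE W (R.π.app (i y) ⁻¹ᵁ V y)
        (by rw [← Scheme.Hom.comp_preimage]; exact (congrArg (fun a => a ⁻¹ᵁ V y) (R.cone.w (j y x).hom)).ge) := by
      rw [← cancel_mono W.ι]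
      simp only [ρ, q, Category.assoc, Scheme.Hom.resLE_comp_ι, Scheme.homOfLE_ι_assoc,
        morphismRestrict_ι_assoc, Scheme.Hom.toImage_imageι_assoc]
      exact congrArg (B.ι ≫ ·) (R.cone.w b)
    refine (ConcreteCategory.congr_hom (congrArg Scheme.Hom.appTop hsq) (r y x)).trans ?_
    exact congrArg (Y.homOfLE hB.le).appTop (hr y x)

end Groth.Agent.H47.PhCover
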